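import Cfsg.Agent.H829.BR.Cnt_m3
import Cfsg.Agent.H781.RatTE6.Row_m3
import Cfsg.Agent.H287.OC.OPlusFour
import Cfsg.Agent.Prune
set_option linter.all false
prune_inst 0x7f00000000000000000000000000000000000000000000000000000000000000000000000000000000000000000000000000000000000000000000000000000000000000000000000000000000000000003fffffffffffffffffffffffffffbeffbdffffffff
open scoped Cfsg.Agent.FastGrp

/-!
# S4891: the field `oplus` of `Rows` (helper636)

`m ≥ 5` : `rowZ_oplus_five`; the two excluded cases have cyclic Sylow subgroups (helper35, helper953); `m = 4` :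
helper287.
-/

set_option autoImplicit false

namespace Cfsg.Agent.H636.BR

open Cfsg Cfsg.Agent.H145.BR

variable {p : ℕ} [hp : Fact p.Prime]

/-- non-cyclic Sylow subgroups and isomorphisms -/
theorem not_cyclic_congr {X S : Type*} [Group X] [Group S] (e : X ≃* S) (h : ∀ P : Sylow p X, ¬ IsCyclic P)
    (P : Sylow p S) : ¬ IsCyclic ↥(P : Subgroup S) := by
  intro hP
  have h1 : (P : Subgroup S) ≤ (e : X →* S).range := fun x _ => ⟨e.symm x, e.apply_symm_apply x⟩
  apply h (P.comapOfInjective (e : X →* S) e.injective h1)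
  let f : ↥((P : Subgroup S).comap (e : X →* S)) →* ↥(P : Subgroup S) :=
    { toFun := fun x => ⟨e x.1, x.2⟩
      map_one' := Subtype.ext (map_one e)
      map_mul' := fun x y => Subtype.ext (map_mul e x.1 y.1) }
  have hf : Function.Injective f := fun x y hxy => Subtype.ext (e.injective (congrArg Subtype.val hxy))
  have h2 : IsCyclic ↥((P : Subgroup S).comap (e : X →* S)) := isCyclic_of_injective f hf
  exact h2

/-- **the field `oplus`** -/
theorem oplus (hp2 : p ≠ 2) :
    RowForT p (fun X _ => ∃ (F : Type) (_ : Field F) (_ : Fintype F) (m : ℕ), (p : F) ≠ 0 ∧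
      4 ≤ m ∧ Nonempty (X ≃* POmega F (quadFormPlus m F))) := by
  intro X _ _ _ _ hd hnc hX
  obtain ⟨F, iF, iT, m, hpF, hm, ⟨e⟩⟩ := hX
  have hd' : p ∣ Nat.card (POmega F (quadFormPlus m F)) := by rwa [← Nat.card_congr e.toEquiv]
  have hnc' := not_cyclic_congr e hnc
  refine (H583.BR.RowZ.congr e ?_).rowT
  rcases Nat.lt_or_ge m 5 with h5 | h5
  · obtain rfl : m = 4 := by omega
    exact (H287.OC.rowInt_oplus_four hp2 hpF hnc' hd').rowZ
  · refine rowZ_oplus_five h5 hp2 hpF hd' fun hodd _ => ?_
    obtain ⟨P⟩ : Nonempty (Sylow p (POmega F (quadFormPlus m F))) := inferInstance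
    have key := fun hw => H35.BR.cyc_plus (F := F) (p := p) (w := m) hm rfl (by
      rw [← Nat.card_eq_fintype_card]
      exact hodd) hw P
    rw [Nat.card_eq_fintype_card]
    exact ⟨fun h => hnc' P (key (Or.inl h)), fun h => hnc' P (key (Or.inr h))⟩

end Cfsg.Agent.H636.BR
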